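import Cfsg.Agent.FGS74.MaxClass.Terms
import Cfsg.Agent.OddOrder.BG4.Basic

/-!
# Centralisers in a group with a subgroup of maximal class

`x ∈ P` has `|C_P(x)| = p ^ 2`, `P` is a `p`-subgroup of largest order. If a normal subgroup avoids
`x` and contains the second centre of `P`, every `p`-subgroup centralising `x` has order `≤ p ^ 2`.
-/

set_option autoImplicit false
set_option linter.style.haveILetI false

namespace CfsgLib.FGS74.MaxClassU

open Subgroup
open CfsgLib.PMaxClass
open scoped commutatorElement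

universe u

variable {G : Type u} [Group G] {p n : ℕ}

/-- Every `p`-subgroup centralising `x` has order at most `p ^ 2`. -/
def PBound (p : ℕ) (G : Type u) [Group G] (x : G) : Prop :=
  ∀ K : Subgroup G, IsPGroup p K → (∀ k ∈ K, k * x = x * k) → Nat.card K ≤ p ^ 2

/-- The hypotheses on `P` and `x`. -/
structure Setup (G : Type u) [Group G] (p n : ℕ) (P : Subgroup G) (x : G) : Prop where
  card_P : Nat.card P = p ^ n
  le_card : ∀ K : Subgroup G, IsPGroup p K → Nat.card K ≤ p ^ n
  mem : x ∈ P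
  cent : Nat.card ↥(P ⊓ centralizer ({x} : Set G)) = p ^ 2

theorem exists_max [Finite G] [Fact p.Prime] {D E : Subgroup G} (hED : E ≤ D) (hE : IsPGroup p E) :
    ∃ S : Subgroup G, E ≤ S ∧ S ≤ D ∧ IsPGroup p S ∧
      ∀ K ≤ D, IsPGroup p K → Nat.card K ≤ Nat.card S := by
  obtain ⟨Q, hQ⟩ := (hE.of_equiv (subgroupOfEquivOfLe hED).symm).exists_le_sylow
  refine ⟨(Q : Subgroup D).map D.subtype, ?_, map_subtype_le _, Q.isPGroup'.map _, ?_⟩
  · rw [← inf_eq_left.2 hED, ← subgroupOf_map_subtype]
    exact map_mono hQ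
  · intro K hK hKp
    obtain ⟨Q', hQ'⟩ := (hKp.of_equiv (subgroupOfEquivOfLe hK).symm).exists_le_sylow
    rw [card_map_of_injective D.subtype_injective,
      ← Nat.card_congr (subgroupOfEquivOfLe hK).toEquiv, Sylow.card_eq_multiplicity Q,
      ← Sylow.card_eq_multiplicity Q']
    exact card_le_of_le hQ'

theorem exists_conj_of_max [Finite G] [Fact p.Prime] {D T K : Subgroup G} (hTD : T ≤ D)
    (hKD : K ≤ D) (hT : IsPGroup p T) (hK : IsPGroup p K) (hc : Nat.card K = Nat.card T)
    (hmax : ∀ S ≤ D, IsPGroup p S → Nat.card S ≤ Nat.card T) :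
    ∃ d ∈ D, ∀ g, g ∈ T ↔ d * g * d⁻¹ ∈ K := by
  have key : ∀ R, R ≤ D → IsPGroup p R → Nat.card R = Nat.card T →
      ∃ Q : Sylow p D, (Q : Subgroup D) = R.subgroupOf D := by
    intro R hR hRp hRc
    obtain ⟨Q, hQ⟩ := (hRp.of_equiv (subgroupOfEquivOfLe hR).symm).exists_le_sylow
    refine ⟨Q, (eq_of_le_of_card_ge hQ ?_).symm⟩
    rw [Nat.card_congr (subgroupOfEquivOfLe hR).toEquiv, hRc,
      ← card_map_of_injective D.subtype_injective (K := (Q : Subgroup D))]
    exact hmax _ (map_subtype_le _) (Q.isPGroup'.map _)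
  obtain ⟨Q₁, h1⟩ := key T hTD hT rfl
  obtain ⟨Q₂, h2⟩ := key K hKD hK hc
  obtain ⟨d, hd⟩ := MulAction.exists_smul_eq D Q₁ Q₂
  refine ⟨d, d.2, fun g => ?_⟩
  have h3 : ∀ y : D, y ∈ (Q₁ : Subgroup D) ↔ d * y * d⁻¹ ∈ (Q₂ : Subgroup D) := by
    intro y
    rw [← hd, Sylow.coe_subgroup_smul, show d * y * d⁻¹ = MulAut.conj d • y from rfl,
      Subgroup.smul_mem_pointwise_smul_iff]
  constructor
  · intro hg
    have := (h3 ⟨g, hTD hg⟩).1 (h1 ▸ mem_subgroupOf.2 hg)
    rw [h2, mem_subgroupOf] at this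
    exact this
  · intro hg
    have hgD : g ∈ D := by
      have := mul_mem (mul_mem (inv_mem d.2) (hKD hg)) d.2
      simpa [mul_assoc] using this
    have := (h3 ⟨g, hgD⟩).2 (h2 ▸ mem_subgroupOf.2 hg)
    rw [h1, mem_subgroupOf] at this
    exact this

theorem map_zTerm_le {H : Type*} [Group H] (f : G →* H) (P : Subgroup G) :
    ∀ i, (zTerm P i).map f ≤ zTerm (P.map f) i := by
  intro i
  induction i with
  | zero => simp
  | succ i ih =>
    rintro _ ⟨g, hg, rfl⟩
    refine mem_zTerm_succ (mem_map_of_mem f (zTerm_le P _ hg)) ?_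
    rintro _ ⟨s, hs, rfl⟩
    rw [← map_commutatorElement]
    exact ih (mem_map_of_mem f (commutator_step hg hs))

theorem card_le_card_map_mul {H : Type*} [Group H] [Finite G] (f : G →* H) (K : Subgroup G) :
    Nat.card K ≤ Nat.card (K.map f) * Nat.card f.ker := by
  have h1 := card_mul_index (f.comp K.subtype).ker
  rw [index_ker, MonoidHom.range_comp, range_subtype] at h1
  rw [← h1, mul_comm]
  refine Nat.mul_le_mul_left _ (Nat.card_le_card_of_injective
    (fun k => (⟨((k : K) : G), k.2⟩ : f.ker)) fun a b hab => ?_)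
  exact Subtype.ext (Subtype.ext (congrArg (fun k : f.ker => (k : G)) hab))

theorem card_comap_of_surjective {H : Type*} [Group H] [Finite G] (f : G →* H)
    (hf : Function.Surjective f) (C : Subgroup H) :
    Nat.card (C.comap f) = Nat.card C * Nat.card f.ker := by
  have h1 := card_mul_index (C.comap f)
  rw [index_comap_of_surjective _ hf] at h1
  have h2 := card_mul_index C
  have h3 := card_mul_index f.ker
  rw [index_ker, f.range_eq_top_of_surjective hf, card_top] at h3
  haveI : Finite H := Finite.of_surjective f hf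
  refine Nat.eq_of_mul_eq_mul_right (Nat.pos_of_ne_zero (FiniteIndex.index_ne_zero (H := C))) ?_
  rw [h1, ← h3, ← h2]
  ring

theorem card_centralizer_equiv {A B : Type*} [Group A] [Group B] (e : A ≃* B) (a : A) :
    Nat.card (centralizer ({e a} : Set B)) = Nat.card (centralizer ({a} : Set A)) := by
  have h : centralizer ({e a} : Set B) = (centralizer ({a} : Set A)).map e.toMonoidHom := by
    ext b
    rw [mem_map_equiv, mem_centralizer_singleton_iff, mem_centralizer_singleton_iff]
    conv_rhs => rw [← e.injective.eq_iff, map_mul, map_mul, e.apply_symm_apply]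
  rw [h, card_map_of_injective e.injective]

theorem card_inf_centralizer {P : Subgroup G} {x : G} (hx : x ∈ P) :
    Nat.card ↥(P ⊓ centralizer ({x} : Set G)) =
      Nat.card (centralizer ({⟨x, hx⟩} : Set P)) := by
  have h : centralizer ({⟨x, hx⟩} : Set P) = (centralizer ({x} : Set G)).subgroupOf P := by
    ext ⟨g, hg⟩
    rw [mem_subgroupOf, mem_centralizer_singleton_iff, mem_centralizer_singleton_iff, Subtype.ext_iff]
    rfl
  rw [h, ← Nat.card_congr (subgroupOfEquivOfLe (inf_le_left :
    P ⊓ centralizer ({x} : Set G) ≤ P)).toEquiv, inf_subgroupOf_left]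

/-- The fusion step: it suffices to look inside a subgroup containing `C(Z)`. -/
theorem pbound_step [Finite G] [hp : Fact p.Prime] {E Z L N : Subgroup G} {x : G} (hxL : x ∈ L)
    (hEc : Nat.card E = p ^ 2) (hxE : x ∈ E) (hEx : ∀ e ∈ E, e * x = x * e)
    (hN : N.Normal) (hxN : x ∉ N) (hZc : Nat.card Z = p) (hZE : Z ≤ E) (hZN : Z ≤ N)
    (hL : centralizer (Z : Set G) ≤ L) (h : PBound p L ⟨x, hxL⟩) : PBound p G x := by
  intro K hKp hKx
  set D := centralizer ({x} : Set G) with hD
  have hED : E ≤ D := fun e he => mem_centralizer_singleton_iff.2 (hEx e he)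
  obtain ⟨S, hES, hSD, hSp, hSmax⟩ := exists_max hED (IsPGroup.of_card hEc)
  refine (hSmax K (fun k hk => mem_centralizer_singleton_iff.2 (hKx k hk)) hKp).trans ?_
  by_contra hgt
  push Not at hgt
  haveI := hSp.isNilpotent
  have hlt : E.subgroupOf S < ⊤ := lt_top_iff_ne_top.2 fun e => by
    have hle : S ≤ E := subgroupOf_eq_top.1 e
    have := card_le_of_le hle
    omega
  obtain ⟨s, hs, hsE⟩ := SetLike.exists_of_lt
    (Group.normalizerCondition_of_isNilpotent (G := S) _ hlt)
  -- `E ∩ N = Z`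
  have hEN : E ⊓ N = Z := by
    refine (eq_of_le_of_card_ge (le_inf hZE hZN) ?_).symm
    have hdvd : Nat.card ↥(E ⊓ N) ∣ p ^ 2 := hEc ▸ card_dvd_of_le inf_le_left
    obtain ⟨i, hi, he⟩ := (Nat.dvd_prime_pow hp.out).1 hdvd
    rw [he, hZc]
    rcases Nat.lt_or_ge i 2 with hi2 | hi2
    · exact (Nat.pow_le_pow_right hp.out.pos (show i ≤ 1 by omega)).trans_eq (pow_one p)
    · have : E ⊓ N = E := eq_of_le_of_card_ge inf_le_left (by
        rw [he, hEc]; exact Nat.pow_le_pow_right hp.out.pos hi2)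
      exact absurd ((inf_eq_left.1 this) hxE) hxN
  set T := S ⊓ normalizer (Z : Set G) with hT
  have hZT : Z ≤ T := le_inf (hZE.trans hES) le_normalizer
  have hET : E ≤ T := by
    refine le_inf hES fun e he => ?_
    rw [mem_normalizer_iff, ← hEN]
    intro g
    constructor
    · rintro ⟨h1, h2⟩
      exact mem_inf.2 ⟨E.mul_mem (E.mul_mem he h1) (E.inv_mem he), hN.conj_mem _ h2 e⟩
    · rintro ⟨h1, h2⟩
      refine ⟨?_, ?_⟩
      · have := mul_mem (mul_mem (inv_mem he) h1) he
        simpa [mul_assoc] using this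
      · have := hN.conj_mem _ h2 e⁻¹
        simpa [mul_assoc] using this
  have hsT : (s : G) ∈ T := by
    refine ⟨s.2, mem_normalizer_iff.2 fun g => ?_⟩
    rw [← hEN]
    have hn : ∀ g : G, g ∈ E ↔ (s : G) * g * (s : G)⁻¹ ∈ E := by
      intro g
      constructor
      · intro hg
        have := (mem_normalizer_iff.1 hs ⟨g, hES hg⟩).1 (mem_subgroupOf.2 hg)
        exact mem_subgroupOf.1 this
      · intro hg
        have hgS : g ∈ S := by
          have := mul_mem (mul_mem (inv_mem s.2) (hES hg)) s.2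
          simpa [mul_assoc] using this
        exact mem_subgroupOf.1
          ((mem_normalizer_iff.1 hs ⟨g, hgS⟩).2 (mem_subgroupOf.2 hg))
    constructor
    · rintro ⟨h1, h2⟩
      exact ⟨(hn g).1 h1, hN.conj_mem _ h2 _⟩
    · rintro ⟨h1, h2⟩
      refine ⟨(hn g).2 h1, ?_⟩
      have := hN.conj_mem _ h2 (s : G)⁻¹
      simpa [mul_assoc] using this
  -- `T` centralises `Z`
  have hTp : IsPGroup p T := hSp.to_le inf_le_left
  have hTZ : T ≤ centralizer (Z : Set G) := by
    haveI : (Z.subgroupOf T).Normal :=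
      normal_subgroupOf_of_le_normalizer inf_le_right
    have hZcard : Nat.card (Z.subgroupOf T) = p := by
      rw [Nat.card_congr (subgroupOfEquivOfLe hZT).toEquiv, hZc]
    have hne : Z.subgroupOf T ≠ ⊥ := fun e => by
      rw [e, card_bot] at hZcard
      exact hp.out.one_lt.ne hZcard
    obtain ⟨w, hwZ, hwc, hwo⟩ := CfsgLib.OddOrder.BG4.exists_central_orderOf_prime hTp hne
    have heq : zpowers w = Z.subgroupOf T :=
      eq_of_le_of_card_ge (zpowers_le.2 hwZ) (by rw [Nat.card_zpowers, hwo, hZcard])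
    intro t ht
    refine mem_centralizer_iff.2 fun z hz => ?_
    have hzc : (⟨z, hZT hz⟩ : T) ∈ center T :=
      (zpowers_le.2 hwc) (heq ▸ mem_subgroupOf.2 hz)
    exact (congrArg Subtype.val (mem_center_iff.1 hzc ⟨t, ht⟩)).symm
  have hTL : T ≤ L := hTZ.trans hL
  have hTc : Nat.card T ≤ p ^ 2 := by
    rw [← Nat.card_congr (subgroupOfEquivOfLe hTL).toEquiv]
    exact h _ (hTp.of_equiv (subgroupOfEquivOfLe hTL).symm) fun k hk =>
      Subtype.ext (mem_centralizer_singleton_iff.1 (hSD (mem_subgroupOf.1 hk).1))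
  have : E = T := eq_of_le_of_card_ge hET (by rw [hEc]; exact hTc)
  exact hsE (mem_subgroupOf.2 (this ▸ hsT))

theorem normal_of_le_center {H : Subgroup G} (h : H ≤ center G) : H.Normal :=
  ⟨fun z hz g => by rw [mem_center_iff.1 (h hz) g, mul_inv_cancel_right]; exact hz⟩

namespace Setup

variable {P : Subgroup G} {x : G}

theorem cent_intrinsic (S : Setup G p n P x) :
    Nat.card (centralizer ({⟨x, S.mem⟩} : Set P)) = p ^ 2 :=
  (card_inf_centralizer S.mem).symm.trans S.cent

theorem maxClass [Fact p.Prime] (S : Setup G p n P x) : MaxClass P p n :=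
  maxClass_of_centralizer S.card_P S.cent_intrinsic

theorem zTerm_one_le [Fact p.Prime] (S : Setup G p n P x) :
    zTerm P 1 ≤ P ⊓ centralizer ({x} : Set G) := fun _ hz =>
  ⟨zTerm_le P 1 hz, mem_centralizer_singleton_iff.2 (zTerm_one_comm hz S.mem).symm⟩

theorem card_one [Fact p.Prime] (S : Setup G p n P x) (hn : 3 ≤ n) :
    Nat.card (zTerm P 1) = p := by
  rw [card_zTerm S.maxClass (by omega), pow_one]

theorem zTerm_top_eq [Fact p.Prime] (S : Setup G p n P x) (hn : 3 ≤ n) :
    zTerm P (n - 2) = ⁅P, P⁆ := by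
  rw [zTerm, S.maxClass.upper_eq_commutator hn, map_commutator, ← MonoidHom.range_eq_map,
    range_subtype]

theorem restrict (S : Setup G p n P x) {L : Subgroup G} (hPL : P ≤ L) :
    Setup L p n (P.subgroupOf L) ⟨x, hPL S.mem⟩ := by
  refine ⟨?_, ?_, mem_subgroupOf.2 S.mem, ?_⟩
  · rw [Nat.card_congr (subgroupOfEquivOfLe hPL).toEquiv, S.card_P]
  · intro K hK
    rw [← card_map_of_injective L.subtype_injective]
    exact S.le_card _ (hK.map _)
  · have h : P.subgroupOf L ⊓ centralizer ({⟨x, hPL S.mem⟩} : Set L) =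
        (P ⊓ centralizer ({x} : Set G)).subgroupOf L := by
      ext ⟨g, hg⟩
      simp only [mem_inf, mem_subgroupOf, mem_centralizer_singleton_iff, Subtype.ext_iff]
      rfl
    rw [h, Nat.card_congr (subgroupOfEquivOfLe (inf_le_left.trans hPL)).toEquiv, S.cent]

theorem le_centralizer_one (P : Subgroup G) : P ≤ centralizer (zTerm P 1 : Set G) := fun g hg =>
  mem_centralizer_iff.2 fun _ hz => (zTerm_one_comm hz hg).symm

theorem map_zTerm_subgroupOf {L : Subgroup G} (hPL : P ≤ L) (i : ℕ) :
    (zTerm (P.subgroupOf L) i).map L.subtype ≤ zTerm P i := by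
  have h := map_zTerm_le L.subtype (P.subgroupOf L) i
  rwa [subgroupOf_map_subtype, inf_eq_left.2 hPL] at h

theorem central_of_centralizer {L : Subgroup G} (hPL : P ≤ L)
    (hL : L ≤ centralizer (zTerm P 1 : Set G)) : zTerm (P.subgroupOf L) 1 ≤ center L := by
  intro z hz
  refine mem_center_iff.2 fun g => Subtype.ext ?_
  exact (mem_centralizer_iff.1 (hL g.2) _
    (map_zTerm_subgroupOf hPL 1 (mem_map_of_mem L.subtype hz))).symm

/-- Passing to the centraliser of the centre of `P`. -/
theorem reduce [Finite G] [Fact p.Prime] (S : Setup G p n P x) (hn : 3 ≤ n) {N : Subgroup G}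
    (hN : N.Normal) (hxN : x ∉ N) (hZN : zTerm P 1 ≤ N)
    (h : PBound p (centralizer (zTerm P 1 : Set G)) ⟨x, le_centralizer_one P S.mem⟩) :
    PBound p G x :=
  pbound_step (le_centralizer_one P S.mem) S.cent ⟨S.mem, mem_centralizer_singleton_iff.2 rfl⟩
    (fun _ he => mem_centralizer_singleton_iff.1 he.2) hN hxN (S.card_one hn) S.zTerm_one_le hZN
    le_rfl h

end Setup

/-- Dividing by the centre of `P` when it is central. -/
theorem descend [Finite G] [hp : Fact p.Prime] {P : Subgroup G} {x : G} (S : Setup G p n P x)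
    (hn : 4 ≤ n) {Z : Subgroup G} [Z.Normal] (hZ : Z = zTerm P 1) (hcen : Z ≤ center G) :
    Setup (G ⧸ Z) p (n - 1) (P.map (QuotientGroup.mk' Z)) (x : G ⧸ Z) ∧
      (PBound p (G ⧸ Z) (x : G ⧸ Z) → PBound p G x) := by
  have hM := S.maxClass
  set f := QuotientGroup.mk' Z with hf
  have hZc : Nat.card Z = p := hZ ▸ S.card_one (by omega)
  have hZP : Z ≤ P := hZ ▸ zTerm_le P 1
  have hker : f.ker = Z := QuotientGroup.ker_mk' Z
  -- the image of `P`
  set φ := f.subgroupMap P with hφ
  have hφs : Function.Surjective φ := MonoidHom.subgroupMap_surjective f P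
  have hφk : φ.ker = center P := by
    ext g
    rw [MonoidHom.mem_ker, Subtype.ext_iff]
    show f (g : G) = 1 ↔ _
    rw [← MonoidHom.mem_ker, hker, hZ, coe_mem_zTerm, Subgroup.upperCentralSeries_one]
  have hcentQ : Nat.card (centralizer ({φ ⟨x, S.mem⟩} : Set (P.map f))) = p ^ 2 := by
    let e := (QuotientGroup.quotientMulEquivOfEq hφk.symm).trans
      (QuotientGroup.quotientKerEquivOfSurjective φ hφs)
    rw [show φ ⟨x, S.mem⟩ = e ((⟨x, S.mem⟩ : P) : P ⧸ center P) from rfl, card_centralizer_equiv]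
    exact card_centralizer_image hM hn S.cent_intrinsic
  have hS' : Setup (G ⧸ Z) p (n - 1) (P.map f) (x : G ⧸ Z) := by
    refine ⟨?_, ?_, mem_map_of_mem f S.mem, ?_⟩
    · have h1 := card_comap_of_surjective φ hφs ⊤
      rw [comap_top, card_top, card_top, hφk, hM.card_center (by omega), S.card_P,
        show n = n - 1 + 1 by omega, pow_succ] at h1
      exact (Nat.eq_of_mul_eq_mul_right hp.out.pos h1).symm
    · intro K hK
      have h1 := card_comap_of_surjective f (QuotientGroup.mk'_surjective Z) K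
      rw [hker, hZc] at h1
      have h2 := S.le_card _ (hK.comap_of_ker_isPGroup f
        (hker.symm ▸ IsPGroup.of_card (n := 1) (by rw [hZc, pow_one])))
      rw [h1, show n = n - 1 + 1 by omega, pow_succ] at h2
      exact Nat.le_of_mul_le_mul_right h2 hp.out.pos
    · exact (card_inf_centralizer (mem_map_of_mem f S.mem)).trans hcentQ
  refine ⟨hS', fun hb => ?_⟩
  set D := (centralizer ({(x : G ⧸ Z)} : Set (G ⧸ Z))).comap f with hD
  have hDmem : ∀ g, g ∈ D ↔ f g * f x = f x * f g := fun g => by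
    rw [hD, mem_comap, mem_centralizer_singleton_iff]; rfl
  have hbound : ∀ R ≤ D, IsPGroup p R → Nat.card R ≤ p ^ 3 := by
    intro R hR hRp
    refine (card_le_card_map_mul f R).trans ?_
    rw [hker, hZc, pow_succ p 2]
    refine Nat.mul_le_mul_right _ (hb _ (hRp.map f) ?_)
    rintro _ ⟨g, hg, rfl⟩
    exact (hDmem g).1 (hR hg)
  set T := P ⊓ D with hT
  have hTc : Nat.card T = p ^ 3 := by
    have h1 := card_comap_of_surjective φ hφs (centralizer ({φ ⟨x, S.mem⟩} : Set (P.map f)))
    rw [hcentQ, hφk, hM.card_center (by omega), ← pow_succ] at h1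
    rw [← h1, ← Nat.card_congr (subgroupOfEquivOfLe (inf_le_left : T ≤ P)).toEquiv]
    have : T.subgroupOf P = (centralizer ({φ ⟨x, S.mem⟩} : Set (P.map f))).comap φ := by
      ext g
      rw [mem_subgroupOf, mem_comap, mem_centralizer_singleton_iff, Subtype.ext_iff, hT, mem_inf,
        hDmem]
      exact ⟨fun h => h.2, fun h => ⟨g.2, h⟩⟩
    rw [this]
  intro K hKp hKx
  by_contra hgt
  push Not at hgt
  haveI : Z.Normal := inferInstance
  set K' := K ⊔ Z with hK'
  have hK'p : IsPGroup p K' := hKp.to_sup_of_normal_right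
    (IsPGroup.of_card (n := 1) (by rw [hZc, pow_one]))
  have hK'x : ∀ k ∈ K', k * x = x * k := by
    have : K' ≤ centralizer ({x} : Set G) := sup_le
      (fun k hk => mem_centralizer_singleton_iff.2 (hKx k hk))
      (hcen.trans (center_le_centralizer _))
    exact fun k hk => mem_centralizer_singleton_iff.1 (this hk)
  have hK'D : K' ≤ D := fun k hk => (hDmem k).2 (by rw [← map_mul, ← map_mul, hK'x k hk])
  have hK'c : Nat.card K' = p ^ 3 := by
    refine le_antisymm (hbound _ hK'D hK'p) ?_
    obtain ⟨i, hi⟩ := IsPGroup.iff_card.mp hK'p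
    have h1 : p ^ 2 < p ^ i := hi ▸ hgt.trans_le (card_le_of_le le_sup_left)
    rw [hi]
    exact Nat.pow_le_pow_right hp.out.pos ((Nat.pow_lt_pow_iff_right hp.out.one_lt).1 h1)
  obtain ⟨d, hdD, hd⟩ := exists_conj_of_max (inf_le_right : T ≤ D) hK'D
    ((IsPGroup.of_card S.card_P).to_le inf_le_left) hK'p (hK'c.trans hTc.symm)
    (fun R hR hRp => hTc.symm ▸ hbound R hR hRp)
  -- `d⁻¹ x d = x z` with `z` central
  have hz : x⁻¹ * (d⁻¹ * x * d) ∈ center G := by
    refine hcen (hker ▸ ?_)
    rw [MonoidHom.mem_ker, map_mul, map_mul, map_mul, map_inv, map_inv]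
    have := (hDmem d).1 hdD
    rw [mul_assoc (f d)⁻¹ (f x) (f d), ← this, inv_mul_cancel_left, inv_mul_cancel]
  have hTle : T ≤ P ⊓ centralizer ({x} : Set G) := by
    intro t ht
    refine ⟨ht.1, mem_centralizer_singleton_iff.2 ?_⟩
    have h1 : Commute (d * t * d⁻¹) x := hK'x _ ((hd t).1 ht)
    have h2 : Commute t (d⁻¹ * x * d) := by
      have h3 := h1.map (MulAut.conj d⁻¹ : G ≃* G).toMonoidHom
      simpa [MulAut.conj_apply, mul_assoc] using h3
    have h4 : Commute t (x⁻¹ * (d⁻¹ * x * d)) := (mem_center_iff.1 hz t)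
    have h5 : x = (d⁻¹ * x * d) * (x⁻¹ * (d⁻¹ * x * d))⁻¹ := by group
    rw [h5]
    exact (h2.mul_right h4.inv_right).eq
  have := card_le_of_le hTle
  rw [hTc, S.cent] at this
  exact absurd this (Nat.pow_lt_pow_right hp.out.one_lt (by omega)).not_ge

/-- A normal subgroup containing `P'` but not `x`. -/
theorem pbound_of_derived {G : Type u} [Group G] [Finite G] [hp : Fact p.Prime] {P : Subgroup G}
    {x : G} (S : Setup G p n P x) (hn : 3 ≤ n) {N : Subgroup G} (hN : N.Normal) (hxN : x ∉ N)
    (hder : ⁅P, P⁆ ≤ N) : PBound p G x := by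
  induction n using Nat.strong_induction_on generalizing G with
  | _ n ih =>
  have hM := S.maxClass
  have hZN : zTerm P 1 ≤ N :=
    (zTerm_mono (by omega)).trans ((S.zTerm_top_eq hn).le.trans hder)
  rcases Nat.lt_or_ge n 4 with h4 | h4
  · obtain rfl : n = 3 := by omega
    intro K hKp hKx
    by_contra hgt
    push Not at hgt
    have hxn : zpowers x ≤ centralizer (K : Set G) :=
      zpowers_le.2 (mem_centralizer_iff.2 fun k hk => hKx k hk)
    have hK'p : IsPGroup p ↥(K ⊔ zpowers x) := hKp.to_sup_of_normal_right'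
      ((IsPGroup.of_card S.card_P).to_le (zpowers_le.2 S.mem))
      (fun k hk => mem_normalizer_iff.2 fun g => by
        constructor
        · intro hg
          have : k * g = g * k := mem_centralizer_iff.1 (hxn hg) k hk
          rw [this, mul_inv_cancel_right]
          exact hg
        · intro hg
          have h1 : k * (k * g * k⁻¹) = k * g * k⁻¹ * k := mem_centralizer_iff.1 (hxn hg) k hk
          rw [inv_mul_cancel_right] at h1
          have h2 : k * g * k⁻¹ = g := mul_left_cancel h1
          rwa [h2] at hg)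
    have hK'c : Nat.card ↥(K ⊔ zpowers x) = p ^ 3 := by
      refine le_antisymm (S.le_card _ hK'p) ?_
      obtain ⟨i, hi⟩ := IsPGroup.iff_card.mp hK'p
      have h1 : p ^ 2 < p ^ i := hi ▸ hgt.trans_le (card_le_of_le le_sup_left)
      rw [hi]
      exact Nat.pow_le_pow_right hp.out.pos ((Nat.pow_lt_pow_iff_right hp.out.one_lt).1 h1)
    obtain ⟨d, -, hd⟩ := exists_conj_of_max (le_top : P ≤ ⊤) (le_top : K ⊔ zpowers x ≤ ⊤)
      (IsPGroup.of_card S.card_P) hK'p (hK'c.trans S.card_P.symm)
      (fun R _ hR => S.card_P.symm ▸ S.le_card R hR)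
    have hxK : ∀ k ∈ K ⊔ zpowers x, k * x = x * k := by
      have : K ⊔ zpowers x ≤ centralizer ({x} : Set G) := sup_le
        (fun k hk => mem_centralizer_singleton_iff.2 (hKx k hk))
        (zpowers_le.2 (mem_centralizer_singleton_iff.2 rfl))
      exact fun k hk => mem_centralizer_singleton_iff.1 (this hk)
    set x' := d⁻¹ * x * d with hx'
    have hx'P : x' ∈ P := (hd x').2 (by
      rw [show d * x' * d⁻¹ = x by rw [hx']; group]
      exact mem_sup_right (mem_zpowers x))
    have hx'Z : x' ∈ zTerm P 1 := by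
      refine mem_zTerm_succ hx'P fun s hs => ?_
      rw [zTerm_zero, mem_bot, commutatorElement_eq_one_iff_mul_comm]
      have h1 : Commute (d * s * d⁻¹) x := hxK _ ((hd s).1 hs)
      have h3 := h1.map (MulAut.conj d⁻¹ : G ≃* G).toMonoidHom
      have h2 : Commute s (d⁻¹ * x * d) := by simpa [MulAut.conj_apply, mul_assoc] using h3
      exact h2.symm.eq
    have := hN.conj_mem _ (hZN hx'Z) d
    rw [show d * x' * d⁻¹ = x by rw [hx']; group] at this
    exact hxN this
  · refine S.reduce hn hN hxN hZN ?_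
    set L := centralizer (zTerm P 1 : Set G) with hL
    have hPL : P ≤ L := Setup.le_centralizer_one P
    have SL := S.restrict hPL
    have hcen : zTerm (P.subgroupOf L) 1 ≤ center L := Setup.central_of_centralizer hPL le_rfl
    haveI : (zTerm (P.subgroupOf L) 1).Normal := normal_of_le_center hcen
    obtain ⟨hQ, hlift⟩ := descend SL h4 rfl hcen
    refine hlift (ih (n - 1) (by omega) hQ (by omega)
      (N := (N.subgroupOf L).map (QuotientGroup.mk' (zTerm (P.subgroupOf L) 1)))
      ((hN.subgroupOf L).map _ (QuotientGroup.mk'_surjective _)) ?_ ?_)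
    · rintro ⟨m, hm, he⟩
      rw [QuotientGroup.mk'_apply, QuotientGroup.eq] at he
      have h1 := hZN (Setup.map_zTerm_subgroupOf hPL 1 (mem_map_of_mem L.subtype he))
      have h2 := mul_mem (mem_subgroupOf.1 hm) h1
      simp at h2
      exact hxN h2
    · rw [← map_commutator]
      refine map_mono (le_trans ?_ (comap_mono (f := L.subtype) hder))
      rw [← map_le_iff_le_comap, map_commutator, subgroupOf_map_subtype, inf_eq_left.2 hPL]

/-- A normal subgroup containing the second centre of `P` but not `x`. -/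
theorem pbound_of_second {G : Type u} [Group G] [Finite G] [hp : Fact p.Prime] {P : Subgroup G}
    {x : G} (S : Setup G p n P x) (hn : 4 ≤ n) {N : Subgroup G} (hN : N.Normal) (hxN : x ∉ N)
    (h2N : zTerm P 2 ≤ N) : PBound p G x := by
  refine S.reduce (by omega) hN hxN ((zTerm_mono (by omega)).trans h2N) ?_
  set L := centralizer (zTerm P 1 : Set G) with hL
  have hPL : P ≤ L := Setup.le_centralizer_one P
  have SL := S.restrict hPL
  set PL := P.subgroupOf L with hPLdef
  have hcen : zTerm PL 1 ≤ center L := Setup.central_of_centralizer hPL le_rfl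
  haveI : (zTerm PL 1).Normal := normal_of_le_center hcen
  obtain ⟨hQ, hlift⟩ := descend SL hn rfl hcen
  refine hlift ?_
  set f := QuotientGroup.mk' (zTerm PL 1) with hf
  set NL := N.subgroupOf L with hNLdef
  have h2NL : zTerm PL 2 ≤ NL := fun g hg =>
    mem_subgroupOf.2 (h2N (Setup.map_zTerm_subgroupOf hPL 2 (mem_map_of_mem L.subtype hg)))
  have hker : ∀ g, f g = 1 ↔ g ∈ zTerm PL 1 := fun g => by
    rw [hf, QuotientGroup.mk'_apply, QuotientGroup.eq_one_iff]
  have hlift2 : ∀ g ∈ PL, f g ∈ zTerm (PL.map f) 1 → g ∈ zTerm PL 2 := by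
    intro g hg hgz
    refine mem_zTerm_succ hg fun s hs => ?_
    have := commutator_step hgz (mem_map_of_mem f hs)
    rw [zTerm_zero, mem_bot, ← map_commutatorElement, hker] at this
    exact this
  have h2map : ∀ u ∈ zTerm PL 2, f u ∈ zTerm (PL.map f) 1 := by
    intro u hu
    refine mem_zTerm_succ (mem_map_of_mem f (zTerm_le _ _ hu)) ?_
    rintro _ ⟨s, hs, rfl⟩
    rw [zTerm_zero, mem_bot, ← map_commutatorElement, hker]
    exact commutator_step hu hs
  refine hQ.reduce (by omega) ((hN.subgroupOf L).map _ (QuotientGroup.mk'_surjective _)) ?_ ?_ ?_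
  · rintro ⟨m, hm, he⟩
    replace he := QuotientGroup.eq.1 he
    have h1 := h2NL (zTerm_mono (by omega : 1 ≤ 2) he)
    have h2 := mul_mem hm h1
    rw [mul_inv_cancel_left] at h2
    exact hxN (mem_subgroupOf.1 h2)
  · intro z hz
    obtain ⟨g, hg, rfl⟩ := zTerm_le _ _ hz
    exact mem_map_of_mem f (h2NL (hlift2 g hg hz))
  set Q1 := centralizer (zTerm (PL.map f) 1 : Set (↥L ⧸ zTerm PL 1)) with hQ1
  have hPQ : PL.map f ≤ Q1 := Setup.le_centralizer_one _
  set C := centralizer (zTerm PL 2 : Set L) with hC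
  have hZC : zTerm PL 1 ≤ C := hcen.trans (center_le_centralizer _)
  refine pbound_of_derived (hQ.restrict hPQ) (by omega) (N := (C.map f).subgroupOf Q1) ⟨?_⟩ ?_ ?_
  · intro m hm l
    obtain ⟨m', hm', hme⟩ := mem_subgroupOf.1 hm
    obtain ⟨g, hge⟩ := QuotientGroup.mk'_surjective (zTerm PL 1) l
    refine mem_subgroupOf.2 ⟨g * m' * g⁻¹, mem_centralizer_iff.2 fun u hu => ?_, ?_⟩
    · have h1 : g⁻¹ * u * g ∈ zTerm PL 2 := by
        have h3 : Commute (f u) (f g) :=
          mem_centralizer_iff.1 (show f g ∈ Q1 by rw [hf, hge]; exact l.2) _ (h2map u hu)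
        have h4 : f ((g⁻¹ * u * g) * u⁻¹) = 1 := by
          rw [map_mul, map_mul, map_mul, map_inv, map_inv, mul_assoc (f g)⁻¹, h3.eq,
            inv_mul_cancel_left, mul_inv_cancel]
        have h5 := mul_mem (zTerm_mono (by omega : 1 ≤ 2) ((hker _).1 h4)) hu
        simpa using h5
      have h2 : Commute (g⁻¹ * u * g) m' := mem_centralizer_iff.1 hm' _ h1
      have h3 := h2.map (MulAut.conj g : L ≃* L).toMonoidHom
      simp [MulAut.conj_apply, mul_assoc] at h3
      simpa [mul_assoc] using h3.eq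
    · rw [map_mul, map_mul, map_inv, hme]
      rw [show f g = (l : ↥L ⧸ zTerm PL 1) from hge]
      rfl
  · intro hmem
    obtain ⟨m, hm, he⟩ := mem_subgroupOf.1 hmem
    replace he := QuotientGroup.eq.1 he
    have h2 := mul_mem hm (hZC he)
    rw [mul_inv_cancel_left] at h2
    have hle : zTerm PL 2 ≤ PL ⊓ centralizer ({⟨x, hPL S.mem⟩} : Set L) := fun u hu =>
      ⟨zTerm_le _ _ hu, mem_centralizer_singleton_iff.2 (mem_centralizer_iff.1 h2 u hu)⟩
    have heq := eq_of_le_of_card_ge hle (by rw [SL.cent, card_zTerm SL.maxClass (by omega)])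
    refine hxN (mem_subgroupOf.1 (h2NL (heq.ge ?_) : (⟨x, hPL S.mem⟩ : L) ∈ NL))
    exact ⟨SL.mem, mem_centralizer_singleton_iff.2 rfl⟩
  · intro g hg
    have h1 : (g : ↥L ⧸ zTerm PL 1) ∈ ⁅PL.map f, PL.map f⁆ := by
      have := mem_map_of_mem Q1.subtype hg
      rwa [map_commutator, subgroupOf_map_subtype, inf_eq_left.2 hPQ] at this
    rw [← map_commutator] at h1
    refine mem_subgroupOf.2 (map_mono ?_ h1)
    rw [← SL.zTerm_top_eq (by omega)]
    exact fun a ha => mem_centralizer_iff.2 fun u hu =>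
      (commute_zTerm SL.maxClass (i := n - 2) (j := 2) (by omega) (by omega) ha hu).symm

end CfsgLib.FGS74.MaxClassU
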