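import Cfsg.Agent.FGS74.MaxClass.Uniform

/-!
# Upper central terms of a subgroup, in the ambient group

(`Cfsg.Agent.PMaxClass.Ambient` cannot be imported together with `Cfsg.Agent.PMaxClass.Uniform`.)
-/

set_option autoImplicit false

namespace CfsgLib.FGS74.MaxClassU

open Subgroup
open CfsgLib.PMaxClass
open scoped commutatorElement

variable {Ω : Type*} [Group Ω] {S : Subgroup Ω} {p n : ℕ}

/-- The `i`-th upper central term of `S`, in the ambient group. -/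
def zTerm (S : Subgroup Ω) (i : ℕ) : Subgroup Ω := (Subgroup.upperCentralSeries S i).map S.subtype

theorem mem_zTerm {i : ℕ} {x : Ω} :
    x ∈ zTerm S i ↔ ∃ h : x ∈ S, (⟨x, h⟩ : S) ∈ Subgroup.upperCentralSeries S i :=
  ⟨fun ⟨y, hy, e⟩ => by subst e; exact ⟨y.2, hy⟩, fun ⟨h, hy⟩ => ⟨⟨x, h⟩, hy, rfl⟩⟩

theorem coe_mem_zTerm {i : ℕ} {x : S} :
    (x : Ω) ∈ zTerm S i ↔ x ∈ Subgroup.upperCentralSeries S i :=
  Subgroup.mem_map_iff_mem S.subtype_injective

theorem zTerm_le (S : Subgroup Ω) (i : ℕ) : zTerm S i ≤ S := Subgroup.map_subtype_le _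

theorem zTerm_mono {i j : ℕ} (h : i ≤ j) : zTerm S i ≤ zTerm S j :=
  Subgroup.map_mono (Subgroup.upperCentralSeries_mono S h)

@[simp] theorem zTerm_zero : zTerm S 0 = ⊥ := by
  rw [zTerm, Subgroup.upperCentralSeries_zero, Subgroup.map_bot]

theorem commutator_step {i : ℕ} {x : Ω} (hx : x ∈ zTerm S (i + 1)) {s : Ω} (hs : s ∈ S) :
    ⁅x, s⁆ ∈ zTerm S i := by
  obtain ⟨h, hx⟩ := mem_zTerm.1 hx
  exact mem_zTerm.2 ⟨mul_mem (mul_mem (mul_mem h hs) (inv_mem h)) (inv_mem hs),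
    Subgroup.mem_upperCentralSeries_succ_iff.1 hx ⟨s, hs⟩⟩

theorem mem_zTerm_succ {i : ℕ} {x : Ω} (hx : x ∈ S) (h : ∀ s ∈ S, ⁅x, s⁆ ∈ zTerm S i) :
    x ∈ zTerm S (i + 1) :=
  mem_zTerm.2 ⟨hx, Subgroup.mem_upperCentralSeries_succ_iff.2 fun y => coe_mem_zTerm.1 (h y y.2)⟩

theorem zTerm_one_comm {x : Ω} (hx : x ∈ zTerm S 1) {s : Ω} (hs : s ∈ S) : s * x = x * s := by
  have h := commutator_step hx hs
  rw [zTerm_zero, Subgroup.mem_bot, commutatorElement_eq_one_iff_mul_comm] at h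
  exact h.symm

theorem card_zTerm (h : MaxClass S p n) {i : ℕ} (hi : i ≤ n - 2) :
    Nat.card (zTerm S i) = p ^ i := by
  rw [zTerm, Subgroup.card_map_of_injective S.subtype_injective, h.card_upper hi]

theorem commute_zTerm (h : MaxClass S p n) {i j : ℕ} (hi : i + 2 ≤ n) (hk : i + j ≤ n) {x y : Ω}
    (hx : x ∈ zTerm S i) (hy : y ∈ zTerm S j) : x * y = y * x := by
  obtain ⟨hxS, hx⟩ := mem_zTerm.1 hx
  obtain ⟨hyS, hy⟩ := mem_zTerm.1 hy
  have h1 := h.commutator_upper_upper (h.upper_top (by omega)) hi (commutator_mem_commutator hx hy)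
  rw [show j + i - n = 0 by omega, Subgroup.upperCentralSeries_zero, Subgroup.mem_bot,
    commutatorElement_eq_one_iff_mul_comm] at h1
  exact congrArg Subtype.val h1

end CfsgLib.FGS74.MaxClassU
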