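import Cfsg.Agent.PMaxClass.ThreeGroups
import Cfsg.Agent.PMaxClass.Criterion

/-!
# Elements with centralisers of order `p ^ 2` in `p`-groups of maximal class

* `exists_centralizer_sq_not_mem`: such an element exists outside any proper subgroup.
* `card_centralizer_image`: the property passes to the quotient by the centre.

The proof shows that the layer centralisers repeat with period `p - 1` going down, so that `p - 1`
of them together with the given subgroup cannot cover the group.
-/

set_option autoImplicit false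
set_option linter.style.haveILetI false

namespace CfsgLib.FGS74.MaxClassU

open Subgroup
open CfsgLib.PMaxClass
open CfsgLib.PMaxClass.MaxClass (layerCentralizer mem_layerCentralizer)
open scoped commutatorElement

universe u

variable {G : Type u} [Group G] {p n : ℕ}

local notation "𝒰" => Subgroup.upperCentralSeries G

theorem center_lt_centralizer [Finite G] {x : G} (hx : x ∉ center G) :
    center G < centralizer ({x} : Set G) :=
  lt_of_le_of_ne (center_le_centralizer _) fun e => hx (e ▸ mem_centralizer_singleton_iff.2 rfl)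

theorem sq_le_card_centralizer (h : MaxClass G p n) (hn : 3 ≤ n) {x : G} (hx : x ∉ center G) :
    p ^ 2 ≤ Nat.card (centralizer ({x} : Set G)) := by
  have := h.finite
  have := Fact.mk h.prime
  have h1 := card_mul_le_of_lt h.isPGroup (center_lt_centralizer hx)
  rwa [h.card_center hn, ← sq] at h1

theorem center_le_top (h : MaxClass G p n) (hn : 3 ≤ n) : center G ≤ 𝒰 (n - 2) := by
  rw [← Subgroup.upperCentralSeries_one]
  exact Subgroup.upperCentralSeries_mono G (by omega)

/-- Outside the layer centralisers the centraliser has order `p ^ 2`. -/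
theorem card_centralizer_of_not_mem (h : MaxClass G p n) (hn : 3 ≤ n) {x : G}
    (hxU : x ∉ 𝒰 (n - 2)) (hxC : ∀ j, 2 ≤ j → j + 2 ≤ n → x ∉ layerCentralizer G j) :
    Nat.card (centralizer ({x} : Set G)) = p ^ 2 := by
  have := h.finite
  have := Fact.mk h.prime
  have hxZ : x ∉ center G := fun hh => hxU (center_le_top h hn hh)
  refine le_antisymm ?_ (sq_le_card_centralizer h hn hxZ)
  have hne : centralizer ({x} : Set G) ≠ ⊤ := fun e => hxZ (mem_center_iff.2 fun g =>
    mem_centralizer_singleton_iff.1 (e ▸ mem_top g : g ∈ centralizer ({x} : Set G)))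
  rw [h.card_le_relIndex (by omega), sq]
  refine Nat.mul_le_mul ?_ (h.relIndex_le_of_ne_top hn hne)
  have hlev : levels n (centralizer ({x} : Set G)) ⊆ {1} := by
    intro j hj
    obtain ⟨⟨hj1, hjn⟩, a, haC, ha, ha'⟩ := mem_levels.1 hj
    rw [Finset.mem_singleton]
    by_contra hne1
    refine hxC j (by omega) hjn (h.mem_layerCentralizer_of_exact hj1 hjn ha ha' ?_)
    rw [commutatorElement_eq_one_iff_mul_comm.2 (mem_centralizer_singleton_iff.1 haC)]
    exact one_mem _
  calc p ^ (levels n (centralizer ({x} : Set G))).card ≤ p ^ 1 :=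
        Nat.pow_le_pow_right h.prime.pos ((Finset.card_le_card hlev).trans (by simp))
    _ = p := pow_one p

/-- An element with centraliser of order `p ^ 2` is outside `U (n - 2)`. -/
theorem not_mem_top (h : MaxClass G p n) (hn : 3 ≤ n) {x : G}
    (hx : Nat.card (centralizer ({x} : Set G)) = p ^ 2) : x ∉ 𝒰 (n - 2) := by
  rcases Nat.lt_or_ge n 4 with h4 | h4
  · obtain rfl : n = 3 := by omega
    rw [show 3 - 2 = 1 from rfl, Subgroup.upperCentralSeries_one]
    intro hxZ
    have : centralizer ({x} : Set G) = ⊤ := eq_top_iff.2 fun g _ =>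
      mem_centralizer_singleton_iff.2 (mem_center_iff.1 hxZ g)
    rw [this, card_top, h.card_eq] at hx
    exact absurd ((Nat.pow_right_injective h.prime.two_le) hx) (by omega)
  · exact h.not_mem_of_centralizer h4 hx

theorem not_mem_center (h : MaxClass G p n) (hn : 3 ≤ n) {x : G}
    (hx : Nat.card (centralizer ({x} : Set G)) = p ^ 2) : x ∉ center G :=
  fun hh => not_mem_top h hn hx (center_le_top h hn hh)

theorem uniform (h : MaxClass G p n) (hn : 3 ≤ n) {x : G}
    (hx : Nat.card (centralizer ({x} : Set G)) = p ^ 2) : Uniform G n x :=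
  h.uniform_of_centralizer hn hx (not_mem_top h hn hx)

theorem pow_mem_center (h : MaxClass G p n) (hn : 3 ≤ n) {x : G}
    (hx : Nat.card (centralizer ({x} : Set G)) = p ^ 2) : x ^ p ∈ center G := by
  have := h.finite
  set C := centralizer ({x} : Set G) with hC
  have hidx : ((center G).subgroupOf C).index = p := by
    have h1 := card_mul_index ((center G).subgroupOf C)
    rw [Nat.card_congr (subgroupOfEquivOfLe (center_le_centralizer _)).toEquiv, h.card_center hn,
      hx, sq] at h1
    exact Nat.eq_of_mul_eq_mul_left h.prime.pos h1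
  have h2 := pow_index_mem ((center G).subgroupOf C) (⟨x, mem_centralizer_singleton_iff.2 rfl⟩ : C)
  rw [hidx] at h2
  exact h2

theorem mul_pow_eq (h : MaxClass G p n) (hn : 3 ≤ n) {x : G}
    (hx : Nat.card (centralizer ({x} : Set G)) = p ^ 2) {a : G} (ha : a ∈ 𝒰 (n - 2)) :
    (a * x) ^ p = x ^ p := by
  obtain ⟨g, hg⟩ := h.exists_conj_eq (by omega) hx ha
  rw [← hg, conj_pow, mem_center_iff.1 (pow_mem_center h hn hx) g, mul_inv_cancel_right]

/-- `p`-th powers along the upper series. -/
theorem pow_level (h : MaxClass G p n) (hn : 3 ≤ n) {x : G}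
    (hx : Nat.card (centralizer ({x} : Set G)) = p ^ 2) :
    ∀ j, j + 2 ≤ n → ∀ a ∈ 𝒰 j,
      a ^ p ∈ 𝒰 (j + 1 - p) ∧ (p ≤ j → a ∉ 𝒰 (j - 1) → a ^ p ∉ 𝒰 (j - p)) := by
  have := Fact.mk h.prime
  have hu := uniform h hn hx
  intro j
  induction j using Nat.strong_induction_on with
  | _ j ih =>
  intro hjn a ha
  rcases Nat.eq_zero_or_pos j with rfl | hj0
  · rw [Subgroup.upperCentralSeries_zero, mem_bot] at ha
    subst ha
    exact ⟨by simp, fun hp => absurd hp (by have := h.prime.two_le; omega)⟩
  have hp2 := h.prime.two_le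
  have hW := h.filtered_layer hjn
  have hmain := mul_pow_congr hW MaxClass.layer_step (x := x) (fun k hk hkp c hc => by
      unfold MaxClass.layer at hc ⊢
      exact Subgroup.upperCentralSeries_mono G (by omega)
        ((ih (min j (j + 1 - k)) (by omega) (by omega) c hc).1))
    (a := a) (by unfold MaxClass.layer; rwa [show min j (j + 1 - 1) = j by omega])
  rw [mul_pow_eq h hn hx (Subgroup.upperCentralSeries_mono G (by omega) ha), mul_inv_cancel,
    inv_one, one_mul] at hmain
  unfold MaxClass.layer at hmain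
  rw [show min j (j + 1 - (p + 1)) = j - p by omega] at hmain
  have hd : dcomm x a (p - 1) ∈ 𝒰 (j + 1 - p) := by
    rw [show j + 1 - p = j - (p - 1) by omega]
    exact MaxClass.dcomm_mem ha _
  refine ⟨?_, fun hpj ha' hmem => ?_⟩
  · have := mul_mem (inv_mem hd) (Subgroup.upperCentralSeries_mono G
      (show j - p ≤ j + 1 - p by omega) hmain)
    simpa using this
  · refine MaxClass.dcomm_not_mem hu hjn ha ha' (p - 1) (by omega) ?_
    rw [show j - (p - 1) - 1 = j - p by omega]
    simpa using mul_mem hmain (inv_mem hmem)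

/-- The layer centralisers repeat with period `p - 1`. -/
theorem layer_step_down (h : MaxClass G p n) (hn : 3 ≤ n) {x : G}
    (hx : Nat.card (centralizer ({x} : Set G)) = p ^ 2) {j : ℕ} (hj : p + 1 ≤ j) (hjn : j + 2 ≤ n)
    {y : G} (hy : y ∈ layerCentralizer G j) : y ∈ layerCentralizer G (j + 1 - p) := by
  have := Fact.mk h.prime
  have hp2 := h.prime.two_le
  obtain ⟨a, ha, ha'⟩ := SetLike.not_le_iff_exists.1
    (h.upper_lt (show 1 ≤ j by omega) (show j + 1 ≤ n by omega))
  obtain ⟨hb, hb'⟩ := pow_level h hn hx j hjn a ha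
  refine h.mem_layerCentralizer_of_exact (a := a ^ p) (by omega) (by omega) hb
    (by rw [show j + 1 - p - 1 = j - p by omega]; exact hb' (by omega) ha') ?_
  rw [show j + 1 - p - 2 = j - 1 - p by omega]
  set w := ⁅y, a⁆ with hw
  have hwU : w ∈ 𝒰 (j - 2) := by
    rw [hw, ← commutatorElement_inv]
    exact inv_mem (mem_layerCentralizer.1 hy a ha)
  have hW := h.filtered_layer (show j - 2 + 2 ≤ n by omega)
  have hmain := mul_pow_congr hW MaxClass.layer_step (x := a) (fun k hk hkp c hc => by
      unfold MaxClass.layer at hc ⊢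
      exact Subgroup.upperCentralSeries_mono G (by omega)
        ((pow_level h hn hx (min (j - 2) (j - 2 + 1 - k)) (by omega) c hc).1))
    (a := w) (by
      unfold MaxClass.layer
      rwa [show min (j - 2) (j - 2 + 1 - 1) = j - 2 by omega])
  unfold MaxClass.layer at hmain
  rw [show min (j - 2) (j - 2 + 1 - (p + 1)) = j - 2 - p by omega] at hmain
  have hd : dcomm a w (p - 1) ∈ 𝒰 (j - 1 - p) :=
    Subgroup.upperCentralSeries_mono G (by omega) (MaxClass.dcomm_mem hwU _)
  have hwp : w ^ p ∈ 𝒰 (j - 1 - p) :=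
    Subgroup.upperCentralSeries_mono G (by omega) (pow_level h hn hx (j - 2) (by omega) w hwU).1
  have h1 : (w * a) ^ p * (a ^ p)⁻¹ ∈ 𝒰 (j - 1 - p) := by
    have h2 := mul_mem (mul_mem hd hwp) (inv_mem (Subgroup.upperCentralSeries_mono G
      (show j - 2 - p ≤ j - 1 - p by omega) hmain))
    have e : ∀ u v : G, v * (u⁻¹ * v)⁻¹ = u := fun u v => by group
    rwa [e] at h2
  have e : w * a = y * a * y⁻¹ := by rw [hw, commutatorElement_def]; group
  rw [e, conj_pow] at h1
  have h3 : ⁅y, a ^ p⁆ ∈ 𝒰 (j - 1 - p) := by rwa [commutatorElement_def]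
  rw [← commutatorElement_inv]
  exact inv_mem h3

/-- The quotient by the centre. -/
theorem maxClass_quotient (h : MaxClass G p n) (hn : 3 ≤ n) :
    MaxClass (G ⧸ center G) p (n - 1) := by
  refine ⟨h.prime, ?_, fun e => h.ne_top ?_⟩
  · have h1 := card_eq_card_quotient_mul_card_subgroup (center G)
    rw [h.card_eq, h.card_center hn, show n = n - 1 + 1 by omega, pow_succ] at h1
    exact (Nat.eq_of_mul_eq_mul_right h.prime.pos h1).symm
  · have h2 := Subgroup.comap_upperCentralSeries_quotient_center (G := G) (n - 1 - 2)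
    rwa [e, comap_top, show (n - 1 - 2).succ = n - 2 by omega, eq_comm] at h2

theorem mem_upper_quotient {i : ℕ} {g : G} :
    (g : G ⧸ center G) ∈ Subgroup.upperCentralSeries (G ⧸ center G) i ↔ g ∈ 𝒰 (i + 1) := by
  rw [← QuotientGroup.mk'_apply, ← mem_comap, Subgroup.comap_upperCentralSeries_quotient_center]

theorem mem_layer_quotient {j : ℕ} (hj : 2 ≤ j) {y : G} :
    (y : G ⧸ center G) ∈ layerCentralizer (G ⧸ center G) j ↔ y ∈ layerCentralizer G (j + 1) := by
  rw [mem_layerCentralizer, mem_layerCentralizer]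
  have key : ∀ b : G, ⁅(b : G ⧸ center G), (y : G ⧸ center G)⁆ ∈
      Subgroup.upperCentralSeries (G ⧸ center G) (j - 2) ↔ ⁅b, y⁆ ∈ 𝒰 (j + 1 - 2) := by
    intro b
    rw [← QuotientGroup.mk'_apply, ← QuotientGroup.mk'_apply, ← map_commutatorElement,
      QuotientGroup.mk'_apply, mem_upper_quotient, show j - 2 + 1 = j + 1 - 2 by omega]
  constructor
  · intro hy b hb
    exact (key b).1 (hy _ (mem_upper_quotient.2 hb))
  · intro hy b hb
    induction b using QuotientGroup.induction_on with
    | _ b => exact (key b).2 (hy b (mem_upper_quotient.1 hb))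

theorem top_le_centralizer_two (h : MaxClass G p n) (hn : 4 ≤ n) :
    𝒰 (n - 2) ≤ layerCentralizer G 2 := by
  intro y hy
  refine mem_layerCentralizer.2 fun b hb => ?_
  have := h.commutator_upper_upper (h.upper_top (by omega)) (i := n - 2) (j := 2) (by omega)
    (commutator_mem_commutator hy hb)
  rw [show 2 + (n - 2) - n = 0 by omega, Subgroup.upperCentralSeries_zero, mem_bot] at this
  rw [← commutatorElement_inv, this, inv_one]
  exact one_mem _

/-- `p` proper subgroups do not cover a `p`-group. -/
theorem exists_not_mem_union [Finite G] (hp : p.Prime) (hG : IsPGroup p G) {ι : Type*}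
    (s : Finset ι) (H : ι → Subgroup G) (hH : ∀ i ∈ s, H i ≠ ⊤) (hs : s.card ≤ p) :
    ∃ g : G, ∀ i ∈ s, g ∉ H i := by
  classical
  have := Fintype.ofFinite G
  have := Fact.mk hp
  by_contra hcov
  push Not at hcov
  have hsub : (Finset.univ : Finset G) ⊆
      insert 1 (s.biUnion fun i => (Finset.univ.filter (· ∈ H i)).erase 1) := by
    intro g _
    obtain ⟨i, hi, hg⟩ := hcov g
    rcases eq_or_ne g 1 with rfl | hg1
    · exact Finset.mem_insert_self _ _
    · exact Finset.mem_insert_of_mem (Finset.mem_biUnion.2 ⟨i, hi, by simp [hg, hg1]⟩)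
  have hcard : ∀ i ∈ s, ((Finset.univ.filter (· ∈ H i)).erase 1).card * p + p ≤ Nat.card G := by
    intro i hi
    have h1 := card_mul_le_of_lt hG (lt_top_iff_ne_top.2 (hH i hi))
    rw [card_top, show Nat.card (H i) = (Finset.univ.filter (· ∈ H i)).card by
      rw [Nat.card_eq_fintype_card, Fintype.card_subtype]] at h1
    rw [← Nat.succ_mul, Finset.card_erase_of_mem (by simp)]
    have h2 : 0 < (Finset.univ.filter (· ∈ H i)).card := Finset.card_pos.2 ⟨1, by simp⟩
    rwa [show (((Finset.univ.filter (· ∈ H i)).card - 1).succ) =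
      (Finset.univ.filter (· ∈ H i)).card by omega]
  have h3 := Finset.card_le_card hsub
  rw [Finset.card_univ, ← Nat.card_eq_fintype_card] at h3
  have h4 := h3.trans (Finset.card_insert_le _ _)
  have h5 := Finset.sum_le_sum hcard
  rw [Finset.sum_add_distrib, ← Finset.sum_mul, Finset.sum_const, Finset.sum_const, smul_eq_mul,
    smul_eq_mul] at h5
  have h6 : (s.biUnion fun i => (Finset.univ.filter (· ∈ H i)).erase 1).card ≤
      ∑ i ∈ s, ((Finset.univ.filter (· ∈ H i)).erase 1).card := Finset.card_biUnion_le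
  generalize ∑ i ∈ s, ((Finset.univ.filter (· ∈ H i)).erase 1).card = S at h5 h6
  have h7 : Nat.card G * p ≤ (S + 1) * p := Nat.mul_le_mul_right p (by omega)
  have h8 : s.card * Nat.card G ≤ p * Nat.card G := Nat.mul_le_mul_right _ hs
  rcases Nat.eq_zero_or_pos s.card with h0 | h0
  · obtain ⟨i, hi, -⟩ := hcov 1
    exact absurd (Finset.card_pos.2 ⟨i, hi⟩) (by omega)
  have hne : Nontrivial G := by
    obtain ⟨i, hi, -⟩ := hcov 1
    by_contra hh
    rw [not_nontrivial_iff_subsingleton] at hh
    exact hH i hi (Subsingleton.elim _ _)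
  have h9 : 2 ≤ Nat.card G := Finite.one_lt_card_iff_nontrivial.2 hne
  have h10 : s.card * p + S * p ≤ p * Nat.card G := by linarith
  nlinarith [hp.two_le, h0]

/-- Periodicity of the layer centralisers. -/
def Periodic (G : Type u) [Group G] (p n : ℕ) : Prop :=
  ∀ j, p + 1 ≤ j → j + 2 ≤ n → layerCentralizer G j ≤ layerCentralizer G (j + 1 - p)

theorem exists_rep (hp : 2 ≤ p) {b : ℕ} (hb : p ≤ b)
    (hper : ∀ j, b + 1 ≤ j → j + 2 ≤ n → layerCentralizer G j ≤ layerCentralizer G (j + 1 - p)) :
    ∀ j, 2 ≤ j → j + 2 ≤ n →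
      ∃ r, 2 ≤ r ∧ r ≤ b ∧ r + 2 ≤ n ∧ layerCentralizer G j ≤ layerCentralizer G r := by
  intro j
  induction j using Nat.strong_induction_on with
  | _ j ih =>
  intro hj hjn
  rcases Nat.lt_or_ge b j with hlt | hge
  · obtain ⟨r, h1, h2, h3, h4⟩ := ih (j + 1 - p) (by omega) (by omega) (by omega)
    exact ⟨r, h1, h2, h3, (hper j (by omega) hjn).trans h4⟩
  · exact ⟨j, hj, hge, hjn, le_rfl⟩

/-- An element with centraliser of order `p ^ 2` from few representatives. -/
theorem exists_of_rep (h : MaxClass G p n) (hn : 3 ≤ n) {b : ℕ}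
    (hrep : ∀ j, 2 ≤ j → j + 2 ≤ n →
      ∃ r, 2 ≤ r ∧ r ≤ b ∧ r + 2 ≤ n ∧ layerCentralizer G j ≤ layerCentralizer G r)
    (M : Finset (Subgroup G)) (hM : ∀ K ∈ M, K ≠ ⊤) (hb2 : 2 ≤ b) (hb : b - 1 + M.card ≤ p) :
    ∃ x : G, (∀ K ∈ M, x ∉ K) ∧ Nat.card (centralizer ({x} : Set G)) = p ^ 2 := by
  classical
  have := h.finite
  rcases Nat.lt_or_ge n 4 with h4 | h4
  · obtain rfl : n = 3 := by omega
    have hU : 𝒰 1 ≠ ⊤ := h.ne_top
    obtain ⟨x, hx⟩ := exists_not_mem_union h.prime h.isPGroup
      (insert (𝒰 1) M) id (fun i hi => by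
        rcases Finset.mem_insert.1 hi with rfl | hi
        · exact hU
        · exact hM i hi) ((Finset.card_insert_le _ _).trans (by omega))
    exact ⟨x, fun K hK => hx K (Finset.mem_insert_of_mem hK),
      card_centralizer_of_not_mem h hn (hx _ (Finset.mem_insert_self _ _)) fun j hj hjn =>
        absurd hjn (by omega)⟩
  · obtain ⟨r₀, hr1, hr2, hr3, hr4⟩ := hrep 2 le_rfl (by omega)
    set R := (Finset.Icc 2 b).filter (fun r => r + 2 ≤ n) with hR
    obtain ⟨x, hx⟩ := exists_not_mem_union h.prime h.isPGroup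
      (R.image (layerCentralizer G) ∪ M) id (fun i hi => by
        rcases Finset.mem_union.1 hi with hi | hi
        · obtain ⟨r, hr, rfl⟩ := Finset.mem_image.1 hi
          rw [hR, Finset.mem_filter, Finset.mem_Icc] at hr
          exact h.layerCentralizer_ne_top hr.1.1 (by omega)
        · exact hM i hi) ((Finset.card_union_le _ _).trans (by
          have h1 : (R.image (layerCentralizer G)).card ≤ b - 1 :=
            (Finset.card_image_le.trans (Finset.card_filter_le _ _)).trans (by simp)
          omega))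
    have hxr : ∀ r, 2 ≤ r → r ≤ b → r + 2 ≤ n → x ∉ layerCentralizer G r := fun r h1 h2 h3 =>
      hx _ (Finset.mem_union_left _ (Finset.mem_image_of_mem _
        (by simp [hR, h1, h2, h3])))
    refine ⟨x, fun K hK => hx K (Finset.mem_union_right _ hK),
      card_centralizer_of_not_mem h hn (fun hh => ?_) fun j hj hjn hh => ?_⟩
    · exact hxr r₀ hr1 hr2 hr3 (hr4 (top_le_centralizer_two h h4 hh))
    · obtain ⟨r, h1, h2, h3, h5⟩ := hrep j hj hjn
      exact hxr r h1 h2 h3 (h5 hh)

theorem periodic {G : Type u} [Group G] {p n : ℕ} (h : MaxClass G p n) : Periodic G p n := by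
  induction n using Nat.strong_induction_on generalizing G with
  | _ n ih =>
  unfold Periodic
  intro j hj hjn y hy
  have hp := h.prime.two_le
  have hQ := ih (n - 1) (by omega) (maxClass_quotient h (by omega))
  obtain ⟨x, -, hx⟩ := exists_of_rep h (by omega) (b := p + 1)
    (exists_rep hp (by omega) fun i hi hin z hz => by
      have h1 := hQ (i - 1) (by omega) (by omega)
        ((mem_layer_quotient (j := i - 1) (by omega)).2 (by rwa [show i - 1 + 1 = i by omega]))
      have h2 := (mem_layer_quotient (j := i - 1 + 1 - p) (by omega)).1 h1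
      rwa [show i - 1 + 1 - p + 1 = i + 1 - p by omega] at h2)
    ∅ (by simp) (by omega) (by simp)
  exact layer_step_down h (by omega) hx hj hjn hy

/-- An element with centraliser of order `p ^ 2` outside a given proper subgroup. -/
theorem exists_centralizer_sq_not_mem {G : Type u} [Group G] {p n : ℕ} (h : MaxClass G p n)
    (hn : 3 ≤ n) {M : Subgroup G} (hM : M ≠ ⊤) :
    ∃ x : G, x ∉ M ∧ Nat.card (centralizer ({x} : Set G)) = p ^ 2 := by
  have := h.prime.two_le
  obtain ⟨x, h1, h2⟩ := exists_of_rep h hn (b := p)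
    (exists_rep h.prime.two_le le_rfl fun i hi hin => periodic h i hi hin)
    {M} (by simpa using hM) this (by simp; omega)
  exact ⟨x, h1 M (Finset.mem_singleton_self M), h2⟩

/-- The property passes to the quotient by the centre. -/
theorem card_centralizer_image (h : MaxClass G p n) (hn : 4 ≤ n) {x : G}
    (hx : Nat.card (centralizer ({x} : Set G)) = p ^ 2) :
    Nat.card (centralizer ({(x : G ⧸ center G)} : Set (G ⧸ center G))) = p ^ 2 := by
  have hu := uniform h (by omega) hx
  refine card_centralizer_of_not_mem (maxClass_quotient h (by omega)) (by omega) ?_ ?_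
  · rw [mem_upper_quotient, show n - 1 - 2 + 1 = n - 2 by omega]
    exact not_mem_top h (by omega) hx
  · intro j hj hjn hh
    exact MaxClass.not_mem_layerCentralizer hu (by omega) (show j + 1 + 2 ≤ n by omega) h
      ((mem_layer_quotient hj).1 hh)

end CfsgLib.FGS74.MaxClassU
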